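import Groth.Agent.Liaison54.Link
import Groth.Agent.LC17.IDepth
import Groth.Agent.LC15.Gamma
import Groth.Agent.GrSyz54.Poly
import Groth.Agent.S14424
import Groth.Agent.S10903

/-! Local cohomology of a basic double link. -/

set_option autoImplicit false

universe u

open Groth.Agent.LC15

namespace Groth.Agent.BDL31

theorem idealDepth_le {R : Type u} [CommRing R] (J m : Ideal R) :
    LocCoh.idealDepth (m.map (Ideal.Quotient.mk J)) (R ⧸ J) ≤ LocCoh.idealDepth m (R ⧸ J) := by
  by_cases h : m • (⊤ : Submodule R (R ⧸ J)) = ⊤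
  · rw [show LocCoh.idealDepth m (R ⧸ J) = ⊤ from if_pos h]
    exact le_top
  · have h' : ¬ (m.map (Ideal.Quotient.mk J)) • (⊤ : Submodule (R ⧸ J) (R ⧸ J)) = ⊤ := by
      intro h1
      rw [smul_eq_mul, Ideal.mul_top] at h1
      refine h ?_
      rw [Ideal.smul_top_eq_map, Ideal.Quotient.algebraMap_eq, h1, Submodule.restrictScalars_top]
    rw [show LocCoh.idealDepth m (R ⧸ J) = _ from if_neg h,
      show LocCoh.idealDepth (m.map (Ideal.Quotient.mk J)) (R ⧸ J) = _ from if_neg h']
    refine iSup₂_le fun rs hrs => ?_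
    have hlift : ∀ r ∈ rs, ∃ x, x ∈ m ∧ Ideal.Quotient.mk J x = r := fun r hr =>
      (Ideal.mem_map_iff_of_surjective _ Ideal.Quotient.mk_surjective).1 (hrs.2 r hr)
    choose g hg hg' using hlift
    let xs : List R := rs.attach.map fun r => g r.1 r.2
    have hmap : xs.map (algebraMap R (R ⧸ J)) = rs := by
      rw [List.map_map]
      conv_rhs => rw [← List.attach_map_subtype_val rs]
      exact List.map_congr_left fun r _ => hg' r.1 r.2
    refine le_iSup₂_of_le xs ⟨?_, ?_⟩ (by simp [xs])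
    · rw [← RingTheory.Sequence.isWeaklyRegular_map_algebraMap_iff (S := R ⧸ J) (M := R ⧸ J) xs, hmap]
      exact hrs.1
    · intro x hx
      obtain ⟨r, -, rfl⟩ := List.mem_map.1 hx
      exact hg r.1 r.2

variable {K : Type u} [Field K] {n : ℕ}

local notation "S" => MvPolynomial (Fin (n + 1)) K
set_option quotPrecheck false in
local notation "𝔪" => (GrSyz.irrel (GrSyz.stdGr K (Fin (n + 1)))).toIdeal

theorem H_vanish (J : Ideal S) (hJ : J.IsHomogeneous (GrSyz.stdGr K (Fin (n + 1))))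
    [LocCoh.IsCohenMacaulayRing (S ⧸ J)] {h : ℕ} (hJh : J.height = h) (i : ℕ) (hi : i + h ≤ n) :
    Subsingleton (LocCoh.H 𝔪 i (S ⧸ J)) := by
  rw [GrSyz54.irrel_eq_ker]
  set m : Ideal S := RingHom.ker (MvPolynomial.constantCoeff (σ := Fin (n + 1)) (R := K))
  haveI hmp : m.IsPrime := RingHom.ker_isPrime _
  have hne : J ≠ ⊤ := fun e => by
    rw [e, Ideal.height_top] at hJh
    exact ENat.coe_ne_top h hJh.symm
  obtain ⟨Q, hQ⟩ := Ideal.nonempty_minimalPrimes hne
  haveI := hQ.1.1
  have hQm : Q ≤ m := fun f hf =>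
    Liaison54.homog_coeff_zero (Liaison54.minimal_homogeneous hJ hQ) hQ.1.1.ne_top f hf
  have hIm : J ≤ m := hQ.1.2.trans hQm
  haveI hmq : (m.map (Ideal.Quotient.mk J)).IsPrime :=
    Ideal.map_isPrime_of_surjective Ideal.Quotient.mk_surjective (by rw [Ideal.mk_ker]; exact hIm)
  set q := m.map (Ideal.Quotient.mk J)
  haveI : LocCoh.IsCohenMacaulayRing S := LC17.isCohenMacaulayRing_of_isRegularRing
  set L := Localization.AtPrime m
  obtain ⟨e⟩ := Grass54.nonempty_quotientLocEquiv S m J q rfl hIm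
  have hS := LocCoh.IsCohenMacaulayRing.isCohenMacaulayLocalRing_localization (R := S) m
  haveI : IsNoetherianRing L := hS.toIsNoetherian
  have hq : LocCoh.IsCohenMacaulayLocalRing (L ⧸ J.map (algebraMap S L)) :=
    CAlg1.cm_of_ringEquiv e.symm (LocCoh.IsCohenMacaulayRing.isCohenMacaulayLocalRing_localization _)
  have hdisj : Disjoint (m.primeCompl : Set S) Q := by
    rw [Set.disjoint_left]
    exact fun x hx hxQ => hx (hQm hxQ)
  haveI : (Q.map (algebraMap S L)).IsPrime := IsLocalization.isPrime_of_isPrime_disjoint m.primeCompl L Q inferInstance hdisj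
  have hQL : Q.map (algebraMap S L) ∈ (J.map (algebraMap S L)).minimalPrimes := by
    refine ⟨⟨inferInstance, Ideal.map_mono hQ.1.2⟩, fun P hP hPQ => ?_⟩
    haveI := hP.1
    have h1 : P.comap (algebraMap S L) ≤ Q := by
      exact (Ideal.comap_mono (f := algebraMap S L) hPQ).trans_eq
        (IsLocalization.comap_map_of_isPrime_disjoint m.primeCompl L inferInstance hdisj)
    exact Ideal.map_le_iff_le_comap.2 (hQ.2 ⟨inferInstance, (Ideal.le_comap_map).trans (Ideal.comap_mono hP.2)⟩ h1)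
  have h3 := EGA4H10.dim_quotient_add_height (Cyc90.coverSucc_of_cm hS) (Q.map (algebraMap S L))
  rw [IsLocalization.height_map_of_disjoint m.primeCompl _ hdisj, Liaison54.dim_quot_of_minimal hq hQL,
    ringKrullDim_eq_of_ringEquiv e, IsLocalization.AtPrime.ringKrullDim_eq_height q (Localization.AtPrime q),
    IsLocalization.AtPrime.ringKrullDim_eq_height m L, Liaison54.height_eq_of_minimal hJ hQ, hJh] at h3
  obtain ⟨a, ha⟩ := ENat.ne_top_iff_exists.1 (q.height_ne_top Ideal.IsPrime.ne_top')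
  obtain ⟨b, hb⟩ := ENat.ne_top_iff_exists.1 (m.height_ne_top Ideal.IsPrime.ne_top')
  rw [← ha, ← hb] at h3
  have hab : a + h = b := by exact_mod_cast h3
  have hb' : n + 1 ≤ b := by
    have h5 : ((n + 1 : ℕ) : ℕ∞) ≤ m.height := S10903.height_ker_constantCoeff K (n + 1)
    rw [← hb] at h5
    exact_mod_cast h5
  have hdep : LocCoh.idealDepth q (S ⧸ J) = q.height :=
    (S14424.result (S ⧸ J)).1 inferInstance q hmq.ne_top
  refine (LC17.natCast_le_idealDepth_iff m (S ⧸ J) a).1 ?_ i (by omega)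
  rw [ha, ← hdep]
  exact idealDepth_le J m

theorem main (J I : Ideal S) (hJ : J.IsHomogeneous (GrSyz.stdGr K (Fin (n + 1)))) (hJI : J ≤ I) {h : ℕ}
    (hJh : J.height = h) (_hIh : I.height = (h + 1 : ℕ))
    [LocCoh.IsCohenMacaulayRing (S ⧸ J)] (f : S) (hJf : J.colon {f} = J) (i : ℕ) (hi : i + h < n) :
    Nonempty (LocCoh.H 𝔪 i (S ⧸ (J ⊔ Ideal.span {f} * I)) ≃ₗ[S] LocCoh.H 𝔪 i (S ⧸ I)) := by
  set T : Ideal S := J ⊔ Ideal.span {f} * I
  set U : Ideal S := J ⊔ Ideal.span {f}
  have hreg : ∀ x, f * x ∈ J → x ∈ J := fun x hx => by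
    rw [← hJf, Submodule.mem_colon_singleton, smul_eq_mul, mul_comm]
    exact hx
  -- multiplication by `f` on `S/J`
  let mf : (S ⧸ J) →ₗ[S] (S ⧸ J) := Submodule.mapQ J J (LinearMap.lsmul S S f) (fun x hx => J.mul_mem_left f hx)
  let qU : (S ⧸ J) →ₗ[S] (S ⧸ U) := Submodule.factor (le_sup_left : (J : Submodule S S) ≤ U)
  have hmf : Function.Injective mf := by
    refine (injective_iff_map_eq_zero _).2 fun x hx => ?_
    obtain ⟨x, rfl⟩ := Submodule.mkQ_surjective _ x
    exact (Submodule.Quotient.mk_eq_zero _).2 (hreg x ((Submodule.Quotient.mk_eq_zero _).1 hx))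
  have hex1 : Function.Exact mf qU := by
    intro y
    obtain ⟨y, rfl⟩ := Submodule.mkQ_surjective _ y
    constructor
    · intro hy
      obtain ⟨j, hj, z, hz, hjz⟩ := Submodule.mem_sup.1 ((Submodule.Quotient.mk_eq_zero U).1 hy)
      obtain ⟨x, rfl⟩ := Ideal.mem_span_singleton'.1 hz
      refine ⟨Submodule.mkQ _ x, (Submodule.Quotient.eq _).2 ?_⟩
      show f * x - y ∈ J
      rw [show f * x - y = -j by have hjz' : j + x * f = y := hjz; linear_combination hjz']
      exact neg_mem hj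
    · rintro ⟨x, hx⟩
      obtain ⟨x, rfl⟩ := Submodule.mkQ_surjective _ x
      rw [← hx]
      exact (Submodule.Quotient.mk_eq_zero U).2 (Ideal.mem_sup_right (Ideal.mul_mem_right x _ (Ideal.mem_span_singleton_self f)))
  have hqU : Function.Surjective qU := Submodule.factor_surjective _
  have hU : ∀ l, l + h < n → Subsingleton (LocCoh.H 𝔪 l (S ⧸ U)) := fun l hl =>
    subsingleton_H_right 𝔪 l hmf hex1 hqU (H_vanish J hJ hJh l (by omega)) (H_vanish J hJ hJh (l + 1) (by omega))
  -- `S/I → S/T → S/U`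
  let φ : (S ⧸ I) →ₗ[S] (S ⧸ T) := Submodule.mapQ I T (LinearMap.lsmul S S f)
    (fun x hx => Ideal.mem_sup_right (Ideal.mul_mem_mul (Ideal.mem_span_singleton_self f) hx))
  have hTU : (T : Submodule S S) ≤ U := sup_le_sup_left Ideal.mul_le_left J
  let ψ : (S ⧸ T) →ₗ[S] (S ⧸ U) := Submodule.factor hTU
  have hφ : Function.Injective φ := by
    refine (injective_iff_map_eq_zero _).2 fun x hx => ?_
    obtain ⟨x, rfl⟩ := Submodule.mkQ_surjective _ x
    have hx' : f * x ∈ T := (Submodule.Quotient.mk_eq_zero T).1 hx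
    obtain ⟨j, hj, z, hz, hjz⟩ := Submodule.mem_sup.1 hx'
    obtain ⟨y, hy, rfl⟩ := Ideal.mem_span_singleton_mul.1 hz
    refine (Submodule.Quotient.mk_eq_zero _).2 ?_
    have := hreg (x - y) (by rw [mul_sub, ← hjz, add_sub_cancel_right]; exact hj)
    simpa using I.add_mem (hJI this) hy
  have hex2 : Function.Exact φ ψ := by
    intro y
    obtain ⟨y, rfl⟩ := Submodule.mkQ_surjective _ y
    constructor
    · intro hy
      obtain ⟨j, hj, z, hz, hjz⟩ := Submodule.mem_sup.1 ((Submodule.Quotient.mk_eq_zero U).1 hy)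
      obtain ⟨x, rfl⟩ := Ideal.mem_span_singleton'.1 hz
      refine ⟨Submodule.mkQ _ x, (Submodule.Quotient.eq _).2 ?_⟩
      show f * x - y ∈ T
      rw [show f * x - y = -j by have hjz' : j + x * f = y := hjz; linear_combination hjz']
      exact Ideal.mem_sup_left (neg_mem hj)
    · rintro ⟨x, hx⟩
      obtain ⟨x, rfl⟩ := Submodule.mkQ_surjective _ x
      rw [← hx]
      exact (Submodule.Quotient.mk_eq_zero U).2 (Ideal.mem_sup_right (Ideal.mul_mem_right x _ (Ideal.mem_span_singleton_self f)))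
  have hbij : Function.Bijective (Hmap 𝔪 i φ) := by
    refine ⟨?_, fun y => ?_⟩
    · cases i with
      | zero => exact Hmap_zero_injective 𝔪 hφ
      | succ l =>
        haveI := hU l (by omega)
        refine (injective_iff_map_eq_zero _).2 fun y hy => ?_
        obtain ⟨z, rfl⟩ := (H_exact₁ 𝔪 l hφ hex2 (Submodule.factor_surjective hTU) y).1 hy
        rw [Subsingleton.elim z 0, map_zero]
    · haveI := hU i hi
      exact (H_exact₂ 𝔪 i hφ hex2 (Submodule.factor_surjective hTU) y).1 (Subsingleton.elim _ _)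
  exact ⟨(LinearEquiv.ofBijective _ hbij).symm⟩

end Groth.Agent.BDL31
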